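import Groth.Agent.DevissLib.Transfer
import Groth.Agent.PureLib.GeomIntegral
import Groth.Agent.FibBasisLib.AtPrime
import Groth.Agent.GenRankLib.Locus

/-!
# Primes and zero divisors in algebras with geometrically integral fibres
-/

set_option autoImplicit false
set_option linter.style.haveILetI false
set_option backward.isDefEq.respectTransparency false
set_option maxHeartbeats 1000000

universe u

open CategoryTheory AlgebraicGeometry TensorProduct

noncomputable section

namespace Groth.Agent.ContentBlowLib

variable {R S : Type u} [CommRing R] [CommRing S] [Algebra R S]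

/-- Flat algebras of finite presentation with geometrically integral fibres are projective modules. -/
theorem projective [Algebra.FinitePresentation R S] [Module.Flat R S] (h : FlatCA.GeomIntegralFibres R S) :
    Module.Projective R S := by
  let f := Spec.map (CommRingCat.ofHom (algebraMap R S))
  haveI : Flat f := (HasRingHomProperty.Spec_iff (P := @Flat)).2 (RingHom.flat_algebraMap_iff.2 inferInstance)
  haveI : LocallyOfFinitePresentation f := (HasRingHomProperty.Spec_iff (P := @LocallyOfFinitePresentation)).2
    (RingHom.finitePresentation_algebraMap.2 inferInstance)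
  haveI : GeometricallyIntegral f := h
  have hproj := ProjPureLib.projective_of_geometricallyIntegral f
  letI := f.appTop.hom.toAlgebra
  let e₁ := (Scheme.ΓSpecIso (CommRingCat.of R)).commRingCatIsoToRingEquiv
  let e₂ := (Scheme.ΓSpecIso (CommRingCat.of S)).commRingCatIsoToRingEquiv
  haveI := RingHomInvPair.of_ringEquiv e₁
  haveI := RingHomInvPair.of_ringEquiv e₁.symm
  let e : Γ(Spec (CommRingCat.of S), ⊤) ≃ₛₗ[(e₁ : Γ(Spec (CommRingCat.of R), ⊤) →+* R)] S :=
    { e₂.toAddEquiv with
      map_smul' := fun r x => by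
        change e₂ (r • x) = e₁ r • e₂ x
        rw [Algebra.smul_def, Algebra.smul_def, map_mul, RingHom.algebraMap_toAlgebra]
        congr 1
        exact ConcreteCategory.congr_hom (Scheme.ΓSpecIso_naturality (CommRingCat.ofHom (algebraMap R S))) r }
  haveI := hproj
  exact Module.Projective.of_equiv e

/-- In a projective algebra, an element vanishing in the fibre at `p` lies in the extension of `p`. -/
theorem mem_map_of_fiber [Module.Projective R S] (p : Ideal R) [p.IsPrime] (c : S)
    (hc : (1 : p.ResidueField) ⊗ₜ[R] c = 0) : c ∈ p.map (algebraMap R S) := by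
  obtain ⟨s, hs⟩ := Module.projective_def'.mp (inferInstance : Module.Projective R S)
  have hc' : Finsupp.linearCombination R id (s c) = c := LinearMap.congr_fun hs c
  rw [← hc', Finsupp.linearCombination_apply, Finsupp.sum]
  refine sum_mem fun x _ => ?_
  rw [Algebra.smul_def]
  refine Ideal.mul_mem_right _ _ (Ideal.mem_map_of_mem _ (Ideal.algebraMap_residueField_eq_zero.mp ?_))
  have h1 := congrArg (fun z => (TensorProduct.rid R p.ResidueField)
    ((((Finsupp.lapply x) ∘ₗ s).lTensor p.ResidueField) z)) hc
  simp only [map_zero, LinearMap.lTensor_tmul, LinearMap.coe_comp, Function.comp_apply, Finsupp.lapply_apply,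
    TensorProduct.rid_tmul] at h1
  rw [← h1, Algebra.smul_def, mul_one]

/-- The extension of a prime is prime when the fibre is a domain. -/
theorem isPrime_map [Module.Projective R S] (p : Ideal R) [p.IsPrime] [IsDomain (p.Fiber S)] :
    (p.map (algebraMap R S)).IsPrime := by
  have hι : ∀ c ∈ p.map (algebraMap R S), CAlgFib.ι (S := S) p c = 0 := by
    intro c hc
    refine (Ideal.map_le_iff_le_comap.2 fun a ha => ?_ : p.map (algebraMap R S) ≤ RingHom.ker (CAlgFib.ι (S := S) p)) hc
    exact CAlgFib.ι_eq_zero p ha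
  refine ⟨fun h => ?_, fun {x y} hxy => ?_⟩
  · exact one_ne_zero ((map_one (CAlgFib.ι (S := S) p)).symm.trans (hι 1 (h ▸ Submodule.mem_top)))
  · have h1 := hι _ hxy
    rw [map_mul, mul_eq_zero] at h1
    exact h1.imp (fun h => mem_map_of_fiber p x h) (fun h => mem_map_of_fiber p y h)

/-- The extension of a prime lies over it when the fibre is nontrivial. -/
theorem liesOver_map (p : Ideal R) [p.IsPrime] [IsDomain (p.Fiber S)] :
    (p.map (algebraMap R S)).LiesOver p := by
  refine ⟨le_antisymm Ideal.le_comap_map fun a ha => ?_⟩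
  have hle : Ideal.map (algebraMap R S) p ≤ RingHom.ker (CAlgFib.ι (S := S) p) :=
    Ideal.map_le_iff_le_comap.2 fun b hb => CAlgFib.ι_eq_zero p hb
  have h0 : CAlgFib.ι (S := S) p (algebraMap R S a) = 0 := hle ha
  have h1 : algebraMap R (p.Fiber S) a = 0 := by
    rw [← h0]
    exact ((Algebra.TensorProduct.includeRight (R := R) (A := p.ResidueField) (B := S)).commutes a).symm
  rw [IsScalarTower.algebraMap_apply R p.ResidueField (p.Fiber S), map_eq_zero_iff _
    (FaithfulSMul.algebraMap_injective p.ResidueField (p.Fiber S)), Ideal.algebraMap_residueField_eq_zero] at h1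
  exact h1

/-- An element killed outside the generic point of the fibre at `p` is killed outside `p`. -/
theorem exists_smul_eq_zero [Algebra.FinitePresentation R S] [Module.Flat R S]
    (hdom : ∀ (q : Ideal R) [q.IsPrime], IsDomain (q.Fiber S)) (p : Ideal R) [p.IsPrime]
    [(p.map (algebraMap R S)).IsPrime] [(p.map (algebraMap R S)).LiesOver p]
    {t y : S} (ht : t ∉ p.map (algebraMap R S)) (hy : t * y = 0) : ∃ h : R, h ∉ p ∧ h • y = 0 := by
  let P := p.map (algebraMap R S)
  haveI : P.IsPrime := inferInstanceAs (p.map (algebraMap R S)).IsPrime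
  haveI : P.LiesOver p := inferInstanceAs ((p.map (algebraMap R S)).LiesOver p)
  let T₁ := Algebra.algebraMapSubmonoid S p.primeCompl
  let T₂ := P.primeCompl
  let g₁ := LocalizedModule.mkLinearMap T₁ (Fin 1 → S)
  let g₂ := LocalizedModule.mkLinearMap T₂ (Fin 1 → S)
  haveI := FibBasisLib.flat_localized_free (R := R) T₁ 1
  haveI := FibBasisLib.flat_localized_free (R := R) T₂ 1
  have hu : ∀ x : T₁, IsUnit (algebraMap S (Module.End S (LocalizedModule T₂ (Fin 1 → S))) x) :=
    fun x => IsLocalizedModule.map_units g₂ ⟨x.1, FibBasisLib.algebraMapSubmonoid_le p P x.2⟩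
  let h := IsLocalizedModule.lift T₁ g₁ g₂ hu
  have hh : ∀ x, h (g₁ x) = g₂ x := fun x => IsLocalizedModule.lift_apply T₁ g₁ g₂ hu x
  have hinj : Function.Injective h := by
    refine FibBasisLib.injective_of_univInj (h.restrictScalars R) fun Q _ _ => ?_
    rw [LinearMap.lTensor_inj_iff_rTensor_inj]
    exact FibBasisLib.univInj_localization hdom T₁ T₂
      (fun q _ => FibBasisLib.cond_of_algebraMapSubmonoid p P T₁ le_rfl q) g₁ g₂ h hh Q
  let v : Fin 1 → S := fun _ => y
  have h2 : g₂ v = 0 := (IsLocalizedModule.eq_zero_iff T₂ g₂).2 ⟨⟨t, ht⟩, funext fun _ => hy⟩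
  have h1 : g₁ v = 0 := hinj (by rw [hh, h2, map_zero])
  obtain ⟨⟨_, r, hr, rfl⟩, hs⟩ := (IsLocalizedModule.eq_zero_iff T₁ g₁).1 h1
  refine ⟨r, hr, ?_⟩
  rw [Algebra.smul_def]
  exact congrFun hs 0

/-- An element killed outside the generic points of the fibres over `D(f)` is killed by a power of `f`. -/
theorem exists_pow_smul_eq_zero [Algebra.FinitePresentation R S] [Module.Flat R S]
    (hdom : ∀ (q : Ideal R) [q.IsPrime], IsDomain (q.Fiber S)) [Module.Projective R S] {f : R} {y : S}
    (hy : ∀ (p : Ideal R) [p.IsPrime], f ∉ p → ∃ t ∉ p.map (algebraMap R S), t * y = 0) :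
    ∃ n : ℕ, f ^ n • y = 0 := by
  let J : Ideal R := LinearMap.ker (LinearMap.toSpanSingleton R S y)
  suffices h : f ∈ J.radical by
    obtain ⟨n, hn⟩ := h
    exact ⟨n, hn⟩
  rw [Ideal.radical_eq_sInf, Submodule.mem_sInf]
  intro p hpm
  obtain ⟨hle, hp⟩ := hpm
  by_contra hf
  haveI := hdom p
  haveI := isPrime_map (S := S) p
  obtain ⟨t, ht, hty⟩ := hy p hf
  haveI := liesOver_map (S := S) p
  obtain ⟨h, hh, hhy⟩ := exists_smul_eq_zero hdom p ht hty
  exact hh (hle hhy)

end Groth.Agent.ContentBlowLib
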