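import Groth.Agent.FittTrLib.Top
import Groth.Agent.FittTrLib.Bot
import Groth.Agent.GenRankLib.Locus

/-!
# Fitting ideals of the quotient by torsion
-/

set_option autoImplicit false
set_option linter.style.haveILetI false
set_option backward.isDefEq.respectTransparency false
set_option maxHeartbeats 1000000

universe u

open TensorProduct Groth.Agent.FittLib

noncomputable section

namespace Groth.Agent.ContentBlowLib

/-- A finite cover with finitely many relations catching given elements of a Fitting ideal. -/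
theorem exists_cover {B : Type u} [CommRing B] (M : Type u) [AddCommGroup M] [Module B M] [Module.Finite B M]
    (r : ℕ) (bs : Finset B) (hbs : (bs : Set B) ⊆ Fitt.ideal B M r) :
    ∃ (M'' : Type u) (_ : AddCommGroup M'') (_ : Module B M'') (_ : Module.Finite B M'') (π : M'' →ₗ[B] M),
      Function.Surjective π ∧ (Fitt.ideal B M'' r).FG ∧ (bs : Set B) ⊆ Fitt.ideal B M'' r := by
  classical
  obtain ⟨n, x, hx⟩ := Module.Finite.exists_fin (R := B) (M := M)
  rw [ideal_eq_D x hx] at hbs
  have h0 : ∀ b : bs, ∃ s : Finset B, (s : Set B) ⊆ dets B x r ∧ (b : B) ∈ Ideal.span (s : Set B) :=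
    fun b => Submodule.mem_span_finite_of_mem_span (hbs b.2)
  choose t ht hb0 using h0
  obtain ⟨s, hs, hsub⟩ : ∃ s : Finset B, (s : Set B) ⊆ dets B x r ∧ (bs : Set B) ⊆ Ideal.span (s : Set B) := by
    let U : Finset B := (Finset.univ : Finset bs).biUnion t
    refine ⟨U, fun d hd => ?_, fun b hb' => ?_⟩
    · obtain ⟨i, -, hi⟩ := Finset.mem_biUnion.1 (Finset.mem_coe.1 hd)
      exact ht i hi
    · have hsub' : (t ⟨b, hb'⟩ : Set B) ⊆ (U : Set B) := fun z hz =>
        Finset.mem_coe.2 (Finset.mem_biUnion.2 ⟨⟨b, hb'⟩, Finset.mem_univ _, Finset.mem_coe.1 hz⟩)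
      exact Ideal.span_mono hsub' (hb0 ⟨b, hb'⟩)
  have hs' : ∀ d : s, ∃ (a : Matrix (Fin n) (Fin n) B) (T : Finset (Fin n)),
      n - r ≤ T.card ∧ (∀ i ∈ T, a i ∈ Rel (R := B) x) ∧ (d : B) = a.det := fun d => hs d.2
  choose A T hT hA hdet using hs'
  let G : Set (Fin n → B) := ⋃ d : s, (A d) '' (T d : Set (Fin n))
  have hGfin : G.Finite := Set.finite_iUnion fun d => (Finset.finite_toSet _).image _
  have hGrel : Submodule.span B G ≤ Rel (R := B) x := Submodule.span_le.mpr (by
    intro v hv
    obtain ⟨d, i, hi, rfl⟩ := Set.mem_iUnion.mp hv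
    exact hA d i hi)
  let M'' := (Fin n → B) ⧸ Submodule.span B G
  let x' : Fin n → M'' := fun i => Submodule.Quotient.mk (Pi.single i 1)
  have hx' : Submodule.span B (Set.range x') = ⊤ := by
    rw [show x' = (Submodule.span B G).mkQ ∘ (Pi.basisFun B (Fin n)) from funext fun i => by simp [x'],
      Set.range_comp, Submodule.span_image, Module.Basis.span_eq, Submodule.map_top, Submodule.range_mkQ]
  have hrel : Submodule.span B G = Rel (R := B) x' := by
    ext v
    rw [mem_rel]
    have : ∑ j, v j • x' j = Submodule.Quotient.mk v := by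
      conv_rhs => rw [pi_eq_sum_univ' v]
      simp [x', ← Submodule.mkQ_apply, map_sum]
    rw [this, Submodule.Quotient.mk_eq_zero]
  have hD : Fitt.ideal B M'' r = D B x' r := ideal_eq_D x' hx' r
  refine ⟨M'', inferInstance, inferInstance, inferInstance, (Submodule.span B G).liftQ (Fintype.linearCombination B x) hGrel,
    fun y => ?_, ?_, fun b hb => ?_⟩
  · obtain ⟨v, hv⟩ := LinearMap.range_eq_top.mp (Fintype.range_linearCombination B x ▸ hx) y
    exact ⟨Submodule.Quotient.mk v, hv⟩
  · rw [hD, D_eq_span_gen x' G hrel r]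
    refine Submodule.fg_span (Set.Finite.subset
      ((Set.Finite.pi fun _ : Fin n => hGfin.union (Set.finite_range fun j : Fin n => (Pi.single j (1 : B) : Fin n → B))).image
        fun a => (Matrix.of a).det) ?_)
    rintro _ ⟨a, T', -, ha, ha', rfl⟩
    refine ⟨a, fun i _ => ?_, rfl⟩
    by_cases hi : i ∈ T'
    · exact Or.inl (ha i hi)
    · obtain ⟨j, hj⟩ := ha' i hi
      exact Or.inr ⟨j, hj.symm⟩
  · rw [SetLike.mem_coe, hD]
    refine Submodule.span_le.mpr ?_ (hsub hb)
    intro d hd
    show d ∈ D B x' r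
    rw [show d = (A ⟨d, hd⟩).det from hdet ⟨d, hd⟩]
    exact det_mem_D _ (hT _) fun i hi =>
      hrel ▸ Submodule.subset_span (Set.mem_iUnion.mpr ⟨⟨d, hd⟩, i, hi, rfl⟩)

variable {B : Type u} [CommRing B] {M Q : Type u} [AddCommGroup M] [Module B M] [Module.Finite B M]
  [AddCommGroup Q] [Module B Q]

/-- If the Fitting ideal is `(b)` near `P` and `Q` is a quotient without `b`-torsion, then its Fitting ideal is
the unit ideal near `P`. -/
theorem not_le_of_colon (r : ℕ) (π : M →ₗ[B] Q) (hπ : Function.Surjective π) (b g : B)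
    (P : Ideal B) [P.IsPrime] (hgP : g ∉ P) (hb : ∀ z : B, b * z = 0 → z = 0)
    (hle : Fitt.ideal B M r ≤ Ideal.span {b}) (hg : b * g ∈ Fitt.ideal B M r)
    (hQ : ∀ q : Q, b • q = 0 → q = 0) : ¬ Fitt.ideal B Q r ≤ P := by
  haveI : Module.Finite B Q := Module.Finite.of_surjective π hπ
  let L := Localization.Away g
  haveI : Module.Flat B L := IsLocalization.flat L (Submonoid.powers g)
  let bL := algebraMap B L b
  have hreg : ∀ z : L, bL * z = 0 → z = 0 := fun z hz => by
    have hi := Module.Flat.lTensor_preserves_injective_linearMap (M := L) (LinearMap.lsmul B B b)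
      ((injective_iff_map_eq_zero _).2 fun x hx => hb x hx)
    have h1 : (LinearMap.lsmul B B b).lTensor L ((TensorProduct.rid B L).symm z) = 0 := by
      apply (TensorProduct.rid B L).injective
      rw [map_zero, ← hz]
      simp [bL, Algebra.smul_def]
    have h2 := hi (h1.trans (map_zero _).symm)
    simpa using congrArg (TensorProduct.rid B L) h2
  have hmap : (Fitt.ideal B M r).map (algebraMap B L) = Ideal.span {bL} := by
    refine le_antisymm ((Ideal.map_mono hle).trans (by rw [Ideal.map_span, Set.image_singleton])) ?_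
    rw [Ideal.span_singleton_le_iff_mem]
    have h1 : algebraMap B L (b * g) ∈ (Fitt.ideal B M r).map (algebraMap B L) := Ideal.mem_map_of_mem _ hg
    rw [map_mul, mul_comm] at h1
    exact ((Fitt.ideal B M r).map (algebraMap B L)).unit_mul_mem_iff_mem
      (IsLocalization.Away.algebraMap_isUnit g) |>.1 h1
  let Ψ : L ⊗[B] M →ₗ[L] L ⊗[B] Q := π.baseChange L
  have hΨ : Function.Surjective Ψ := LinearMap.lTensor_surjective L hπ
  have htop := FittTrLib.ideal_quot_eq_top M r L bL hreg hmap (LinearMap.ker Ψ) fun z hz => by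
    rw [LinearMap.mem_ker]
    have h1 : bL • Ψ z = 0 := by rw [← map_smul, hz, map_zero]
    have hi := Module.Flat.lTensor_preserves_injective_linearMap (M := L) (LinearMap.lsmul B Q b)
      ((injective_iff_map_eq_zero _).2 fun x hx => hQ x hx)
    refine hi ?_
    rw [map_zero, ← h1, algebraMap_smul]
    generalize Ψ z = w
    induction w using TensorProduct.induction_on with
    | zero => simp
    | tmul l x => simp [TensorProduct.tmul_smul]
    | add x y hx hy => rw [map_add, hx, hy, smul_add]
  haveI : Module.Finite L (L ⊗[B] Q) := Module.Finite.base_change B L Q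
  rw [ideal_eq_of_equiv (Ψ.quotKerEquivOfSurjective hΨ) r, ideal_baseChange] at htop
  intro hP
  have hd : Disjoint (Submonoid.powers g : Set B) (P : Set B) := by
    rw [Set.disjoint_left]
    rintro _ ⟨l, rfl⟩ hm
    exact hgP (Ideal.IsPrime.mem_of_pow_mem ‹_› l hm)
  exact (IsLocalization.isPrime_of_isPrime_disjoint (Submonoid.powers g) L P
    inferInstance hd).ne_top (top_le_iff.1 (htop ▸ Ideal.map_mono hP))

/-- The quotient by `c`-torsion has vanishing Fitting ideal if it vanishes after inverting `c`. -/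
theorem ideal_quot_eq_bot (j : ℕ) (c : B) (hc : ∀ z : B, c * z = 0 → z = 0) (T : Submodule B M)
    (hT : T ≤ FlatCA.powTorsion B c M)
    (hM : ∀ y ∈ Fitt.ideal B M j, ∃ n : ℕ, c ^ n * y = 0) : Fitt.ideal B (M ⧸ T) j = ⊥ := by
  rw [eq_bot_iff]
  intro y hy
  let L := Localization.Away c
  let ψ : M →ₗ[B] L ⊗[B] M := TensorProduct.mk B L M 1
  have hψ : T ≤ LinearMap.ker ψ := hT.trans <| iSup_le fun n z hz => by
    rw [Submodule.mem_torsionBy_iff] at hz
    rw [LinearMap.mem_ker]
    have h1 := congrArg ψ hz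
    rw [map_smul, map_zero, ← algebraMap_smul L, map_pow] at h1
    exact (((IsLocalization.Away.algebraMap_isUnit (S := L) c).pow n).smul_eq_zero).mp h1
  let g : L ⊗[B] (M ⧸ T) →ₗ[L] L ⊗[B] M := (T.liftQ ψ hψ).liftBaseChange L
  have hg : Function.Surjective g := fun w => by
    induction w using TensorProduct.induction_on with
    | zero => exact ⟨0, map_zero _⟩
    | tmul l m =>
      refine ⟨l ⊗ₜ Submodule.Quotient.mk m, ?_⟩
      simp only [g, LinearMap.liftBaseChange_tmul, Submodule.liftQ_apply, ψ, TensorProduct.mk_apply,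
        TensorProduct.smul_tmul', smul_eq_mul, mul_one]
    | add x y hx hy =>
      obtain ⟨x', rfl⟩ := hx
      obtain ⟨y', rfl⟩ := hy
      exact ⟨x' + y', map_add _ _ _⟩
  have h1 := ideal_mono_of_surjective g hg j
  rw [ideal_baseChange, ideal_baseChange] at h1
  have h2 : (Fitt.ideal B M j).map (algebraMap B L) = ⊥ := by
    rw [Ideal.map_eq_bot_iff_le_ker]
    intro z hz
    obtain ⟨n, hn⟩ := hM z hz
    rw [RingHom.mem_ker, IsLocalization.map_eq_zero_iff (Submonoid.powers c)]
    exact ⟨⟨_, n, rfl⟩, hn⟩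
  have h3 := h1 (Ideal.mem_map_of_mem _ hy)
  rw [h2, Ideal.mem_bot, IsLocalization.map_eq_zero_iff (Submonoid.powers c)] at h3
  obtain ⟨⟨_, n, rfl⟩, hn⟩ := h3
  rw [Ideal.mem_bot]
  clear hy h1
  induction n with
  | zero => simpa using hn
  | succ n ih => exact ih (hc _ (by rw [← mul_assoc, ← pow_succ']; exact hn))

/-- Free of rank `r` near a prime outside `V(Fit_r)` when the lower Fitting ideals vanish. -/
theorem exists_free (r : ℕ) (P : Ideal B) [P.IsPrime] (hr : ¬ Fitt.ideal B M r ≤ P)
    (hbot : ∀ j, j < r → Fitt.ideal B M j = ⊥) :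
    ∃ f : B, f ∉ P ∧ Module.Free (Localization.Away f) (LocalizedModule (Submonoid.powers f) M) ∧
      Module.rank (Localization.Away f) (LocalizedModule (Submonoid.powers f) M) = r := by
  classical
  obtain ⟨f, hf, hg⟩ := exists_span_localized_of_not_le P hr
  obtain ⟨g, hspan⟩ := hg (Submonoid.powers f) (Submonoid.mem_powers f)
  have : Nontrivial (Localization.Away f) :=
    not_subsingleton_iff_nontrivial.1 fun hs ↦ by
      obtain ⟨l, hl⟩ := (IsLocalization.subsingleton_iff (M := Submonoid.powers f)).1 hs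
      exact hf (Ideal.IsPrime.mem_of_pow_mem ‹_› l (by rw [show f ^ l = 0 from hl]; exact P.zero_mem))
  have hli : LinearIndependent (Localization.Away f) g := by
    rw [Fintype.linearIndependent_iff]
    intro v hv i
    have hmem : v i ∈ D (Localization.Away f) g (r - 1) := by
      have hr : 0 < r := i.pos
      have := det_mem_D (R := Localization.Away f) (k := r - 1) (x := g)
        (a := (1 : Matrix (Fin r) (Fin r) (Localization.Away f)).updateRow i v) {i} (by simp; omega)
        fun l hl ↦ by
          rw [Finset.mem_singleton.1 hl, Matrix.updateRow_self]; exact mem_rel.2 hv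
      rw [show v = ∑ l, v l • (1 : Matrix (Fin r) (Fin r) (Localization.Away f)) l by
        funext j; simp [Matrix.one_apply], Matrix.det_updateRow_sum, Matrix.det_one] at this
      simpa using this
    rw [← ideal_eq_D g hspan,
      ideal_eq_of_equiv (LocalizedModule.equivTensorProduct (Submonoid.powers f) M),
      ideal_baseChange, hbot _ (by have := i.pos; omega), Ideal.map_bot, Ideal.mem_bot] at hmem
    exact hmem
  let b := Module.Basis.mk hli hspan.ge
  exact ⟨f, hf, Module.Free.of_basis b, by rw [rank_eq_card_basis b, Fintype.card_fin]⟩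

end Groth.Agent.ContentBlowLib
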